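import Groth.Agent.H4Gr.PolyUnmixed
import Groth.Agent.H26Grass.Cone
import Mathlib.RingTheory.Ideal.KrullsHeightTheorem
import Mathlib.RingTheory.Ideal.AssociatedPrime.Localization

/-!
# Hypersurface sections of Cohen–Macaulay homogeneous quotients
-/

set_option autoImplicit false
set_option linter.style.haveILetI false
set_option linter.unusedSectionVars false

universe u

open MvPolynomial GrSyz IsLocalRing

namespace Groth.Agent.H4Liaison

/-- A quotient of a Cohen–Macaulay ring by a non-zero-divisor is Cohen–Macaulay. -/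
theorem isCohenMacaulayRing_quot_sup {R : Type u} [CommRing R] [IsNoetherianRing R] (J : Ideal R)
    [LocCoh.IsCohenMacaulayRing (R ⧸ J)] {f : R} (hJf : J.colon {f} = J) :
    LocCoh.IsCohenMacaulayRing (R ⧸ (J ⊔ Ideal.span {f})) := by
  constructor
  intro Q _
  let φ : (R ⧸ J) →+* R ⧸ (J ⊔ Ideal.span {f}) := Ideal.Quotient.factor le_sup_left
  have hreg : IsSMulRegular (R ⧸ J) (Ideal.Quotient.mk J f) := by
    rw [isSMulRegular_iff_right_eq_zero_of_smul]
    intro z hz
    obtain ⟨z, rfl⟩ := Ideal.Quotient.mk_surjective z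
    rw [smul_eq_mul, ← map_mul, Ideal.Quotient.eq_zero_iff_mem] at hz
    rw [Ideal.Quotient.eq_zero_iff_mem, ← hJf, Submodule.mem_colon_singleton, smul_eq_mul, mul_comm]
    exact hz
  have hker : RingHom.ker φ = Ideal.span {Ideal.Quotient.mk J f} := by
    rw [Ideal.Quotient.factor_ker, Ideal.map_sup, Ideal.map_quotient_self, bot_sup_eq,
      Ideal.map_span, Set.image_singleton]
  exact (H26Grass.isCM_iff_of_regular φ (Ideal.Quotient.factor_surjective le_sup_left) _ hker hreg Q
    (Q.comap φ) rfl).1 (LocCoh.IsCohenMacaulayRing.isCohenMacaulayLocalRing_localization _)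

variable {K : Type u} [Field K] {σ : Type} [Finite σ]

local notation "𝐑" => MvPolynomial σ K
local notation "𝒮" => GrSyz.stdGr K σ

theorem height_le_add_one_of_mem_minimalPrimes (Q : Ideal 𝐑) [Q.IsPrime] (f : 𝐑) {P : Ideal 𝐑}
    (hP : P ∈ (Q ⊔ Ideal.span {f}).minimalPrimes) : P.height ≤ Q.height + 1 := by
  haveI := hP.1.1
  let L := Localization.AtPrime P
  haveI : LocCoh.IsCohenMacaulayLocalRing L := H4Gr.PolyUnmixed.cmLocal_polynomial P
  have hdisj : Disjoint (P.primeCompl : Set 𝐑) (Q : Set 𝐑) :=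
    Set.disjoint_left.2 fun x hx hxQ => hx (le_sup_left.trans hP.1.2 hxQ)
  haveI := IsLocalization.isPrime_of_isPrime_disjoint P.primeCompl L Q ‹_› hdisj
  have hh : (Q.map (algebraMap 𝐑 L)).height = Q.height :=
    (IsLocalization.height_comap P.primeCompl (Q.map (algebraMap 𝐑 L))).symm.trans
      (congrArg Ideal.height (IsLocalization.comap_map_of_isPrime_disjoint P.primeCompl L ‹_› hdisj))
  have h1 := H05EGA4.height_add_dim_eq_of_isCohenMacaulay L (Q.map (algebraMap 𝐑 L))
  rw [hh, IsLocalization.AtPrime.ringKrullDim_eq_height P L] at h1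
  have hmax : maximalIdeal L ∈ (Q.map (algebraMap 𝐑 L) ⊔ Ideal.span {algebraMap 𝐑 L f}).minimalPrimes := by
    have h := hP
    rw [← Localization.AtPrime.under_maximalIdeal (I := P), ← Set.mem_preimage (f := Ideal.under 𝐑),
      ← IsLocalization.minimalPrimes_map P.primeCompl L, Ideal.map_sup, Ideal.map_span, Set.image_singleton] at h
    exact h
  have h2 := Ideal.map_height_le_one_of_mem_minimalPrimes hmax
  haveI : Nontrivial (L ⧸ Q.map (algebraMap 𝐑 L)) :=
    Ideal.Quotient.nontrivial_iff.2 (Ideal.IsPrime.ne_top ‹_›)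
  haveI : IsLocalRing (L ⧸ Q.map (algebraMap 𝐑 L)) :=
    .of_surjective' (Ideal.Quotient.mk _) Ideal.Quotient.mk_surjective
  have h3 : ringKrullDim (L ⧸ Q.map (algebraMap 𝐑 L)) ≤ 1 := by
    refine (IsLocalRing.maximalIdeal_height_eq_ringKrullDim (R := L ⧸ Q.map (algebraMap 𝐑 L))).symm.trans_le ?_
    rw [
      show maximalIdeal (L ⧸ Q.map (algebraMap 𝐑 L)) = (maximalIdeal L).map (Ideal.Quotient.mk _) from
        (IsLocalRing.map_maximalIdeal_of_surjective _ Ideal.Quotient.mk_surjective).symm]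
    exact_mod_cast h2
  have h4 : (P.height : WithBot ℕ∞) ≤ (Q.height : WithBot ℕ∞) + 1 := by
    rw [← h1]
    gcongr
  exact_mod_cast h4

/-- Height of a hypersurface section. -/
theorem height_sup_span (J : Ideal 𝐑) (hJ : J.IsHomogeneous 𝒮) [LocCoh.IsCohenMacaulayRing (𝐑 ⧸ J)]
    {h : ℕ} (hJh : J.height = h) {f : 𝐑} (hJf : J.colon {f} = J) (hne : J ⊔ Ideal.span {f} ≠ ⊤) :
    (J ⊔ Ideal.span {f}).height = h + 1 := by
  obtain ⟨P, hP⟩ := (J ⊔ Ideal.span {f}).nonempty_minimalPrimes hne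
  refine le_antisymm ?_ ?_
  · haveI := hP.1.1
    obtain ⟨Q, hQ, hQP⟩ := Ideal.exists_minimalPrimes_le (le_sup_left.trans hP.1.2)
    haveI := hQ.1.1
    have hP' : P ∈ (Q ⊔ Ideal.span {f}).minimalPrimes :=
      ⟨⟨hP.1.1, sup_le hQP (le_sup_right.trans hP.1.2)⟩,
        fun T ⟨hT, hQT⟩ hTP => hP.2 ⟨hT, sup_le (hQ.1.2.trans (le_sup_left.trans hQT)) (le_sup_right.trans hQT)⟩ hTP⟩
    calc (J ⊔ Ideal.span {f}).height ≤ P.height := Ideal.height_mono hP.1.2
      _ ≤ Q.height + 1 := height_le_add_one_of_mem_minimalPrimes Q f hP'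
      _ = h + 1 := by rw [H4Gr.PolyUnmixed.height_minimalPrimes_eq J hJ hQ, hJh]
  · rw [Ideal.height_eq_inf_minimalPrimes]
    refine le_iInf₂ fun P hP => ?_
    haveI := hP.1.1
    obtain ⟨Q, hQ, hQP⟩ := Ideal.exists_minimalPrimes_le (le_sup_left.trans hP.1.2)
    haveI := hQ.1.1
    have hne : Q ≠ P := by
      rintro rfl
      have hass := Module.associatedPrimes.minimalPrimes_annihilator_subset_associatedPrimes 𝐑
        (𝐑 ⧸ J) (by rwa [Ideal.annihilator_quotient] : Q ∈ _)
      obtain ⟨-, z, hz⟩ := isAssociatedPrime_iff.mp hass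
      obtain ⟨z, rfl⟩ := Ideal.Quotient.mk_surjective z
      have h1 : f ∈ Q := le_sup_right.trans hP.1.2 (Ideal.mem_span_singleton_self f)
      rw [hz, Submodule.mem_colon_singleton, Submodule.mem_bot] at h1
      have h2 : z ∈ J.colon {f} := Submodule.mem_colon_singleton.2 (by
        show z * f ∈ J
        rw [mul_comm]
        exact Ideal.Quotient.eq_zero_iff_mem.1 h1)
      rw [hJf] at h2
      refine hQ.1.1.ne_top ((Ideal.eq_top_iff_one _).2 ?_)
      rw [hz, Submodule.mem_colon_singleton, Submodule.mem_bot, one_smul]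
      exact Ideal.Quotient.eq_zero_iff_mem.2 h2
    have h1 := Ideal.height_strict_mono_of_isPrime (I := Q) (lt_of_le_of_ne hQP hne)
    exact Order.add_one_le_of_lt (lt_of_le_of_lt (hJh ▸ Ideal.height_mono hQ.1.2) h1)

end Groth.Agent.H4Liaison
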