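import Groth.Agent.H4Liaison.LinkGor

/-!
# The intersection of geometrically linked Cohen–Macaulay quotients is Gorenstein
-/

set_option autoImplicit false
set_option linter.style.haveILetI false

universe u

open IsLocalRing
open scoped Pointwise

namespace Groth.Agent.H4Liaison

variable {A : Type u} [CommRing A]

/-- The connecting map of `0 → A → A/I₁ ⊕ A/I₂ → A/(I₁+I₂) → 0` on socle elements. -/
theorem socle_transfer {I₁ I₂ : Ideal A} (h : I₁ ⊓ I₂ = ⊥) {x : A} (h₂ : IsSMulRegular (A ⧸ I₂) x)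
    (h₁ : IsSMulRegular (A ⧸ I₁) x) {P : Ideal A} {y : A} (hy : ∀ r ∈ P, r * y ∈ I₁ ⊔ I₂) {i₁ i₂ : A}
    (hi₁ : i₁ ∈ I₁) (hi₂ : i₂ ∈ I₂) (hxy : i₁ + i₂ = x * y) :
    (∀ r ∈ P, r * i₂ ∈ Ideal.span {x}) ∧ (i₂ ∈ Ideal.span {x} → y ∈ I₁ ⊔ I₂) := by
  have cancel : ∀ (T : Ideal A), IsSMulRegular (A ⧸ T) x → ∀ w, x * w ∈ T → w ∈ T := fun T hT w hw =>
    Ideal.Quotient.eq_zero_iff_mem.1 (hT.right_eq_zero_of_smul
      (Ideal.Quotient.eq_zero_iff_mem.2 hw : Ideal.Quotient.mk T (x * w) = 0))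
  refine ⟨fun r hr => ?_, fun hi => ?_⟩
  · obtain ⟨j₁, hj₁, j₂, hj₂, hj⟩ := Submodule.mem_sup.1 (hy r hr)
    refine Ideal.mem_span_singleton'.2 ⟨j₂, ?_⟩
    have hmem : r * i₂ - j₂ * x ∈ I₁ ⊓ I₂ := by
      refine ⟨?_, I₂.sub_mem (I₂.mul_mem_left r hi₂) (I₂.mul_mem_right x hj₂)⟩
      have he : r * i₂ - j₂ * x = x * j₁ - r * i₁ := by linear_combination r * hxy - x * hj
      rw [he]
      exact I₁.sub_mem (I₁.mul_mem_left x hj₁) (I₁.mul_mem_left r hi₁)
    rw [h, Ideal.mem_bot, sub_eq_zero] at hmem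
    exact hmem.symm
  · obtain ⟨w, hw⟩ := Ideal.mem_span_singleton'.1 hi
    have hw2 : w ∈ I₂ := cancel I₂ h₂ w (by rw [mul_comm, hw]; exact hi₂)
    have hw1 : y - w ∈ I₁ := cancel I₁ h₁ _ (by
      rw [mul_sub, mul_comm x w, hw, ← hxy, add_sub_cancel_right]
      exact hi₁)
    have := Submodule.add_mem_sup hw1 hw2
    rwa [sub_add_cancel] at this

theorem isSMulRegular_quot_of_mul_mem {T : Ideal A} {x : A} (h : ∀ y, x * y ∈ T → y ∈ T) :
    IsSMulRegular (A ⧸ T) x := by
  rw [isSMulRegular_iff_right_eq_zero_of_smul]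
  intro z hz
  obtain ⟨y, rfl⟩ := Ideal.Quotient.mk_surjective z
  exact Ideal.Quotient.eq_zero_iff_mem.2 (h y (Ideal.Quotient.eq_zero_iff_mem.1 hz))

theorem gor_quot_sup : ∀ (n : ℕ) {A : Type u} [CommRing A] [LocCoh.IsGorensteinLocalRing A],
    ringKrullDim A = n → ∀ I₁ I₂ : Ideal A, H3CAlg.GorMCM.IsMCMQuot A I₁ → H3CAlg.GorMCM.IsMCMQuot A I₂ →
    I₁ ⊓ I₂ = ⊥ → I₁ ⊔ I₂ ≠ ⊤ → ringKrullDim (A ⧸ (I₁ ⊔ I₂)) + 1 ≤ n →
      LocCoh.IsGorensteinLocalRing (A ⧸ (I₁ ⊔ I₂)) ∧ ringKrullDim (A ⧸ (I₁ ⊔ I₂)) + 1 = n := by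
  intro n
  induction n using Nat.strong_induction_on with
  | _ n ih =>
    intro A _ _ hn I₁ I₂ hI₁ hI₂ hinf hne hdim
    haveI : Nontrivial (A ⧸ (I₁ ⊔ I₂)) := Ideal.Quotient.nontrivial_iff.2 hne
    haveI : IsLocalRing (A ⧸ (I₁ ⊔ I₂)) := .of_surjective' (Ideal.Quotient.mk _) Ideal.Quotient.mk_surjective
    have hC0 : (0 : WithBot ℕ∞) ≤ ringKrullDim (A ⧸ (I₁ ⊔ I₂)) := ringKrullDim_nonneg_of_nontrivial
    obtain ⟨n', hdep, hn'', hd3⟩ := H4Goren.depth_eq_ringKrullDim A
    obtain rfl : n' = n := by rw [hn] at hn''; exact_mod_cast hn''.symm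
    have hm : ∀ r ∈ maximalIdeal A, Ideal.Quotient.mk (I₁ ⊔ I₂) r ∈ maximalIdeal (A ⧸ (I₁ ⊔ I₂)) := fun r hr =>
      (IsLocalRing.map_maximalIdeal_of_surjective _ Ideal.Quotient.mk_surjective).le (Ideal.mem_map_of_mem _ hr)
    obtain ⟨x₀, hx₀m, hx₀⟩ := (H4Depth.one_le_idealDepth_iff (R := A) (M := A) H4Depth.maximalIdeal_smul_top_ne_top).mp
      (show (1 : ℕ∞) ≤ LocCoh.depth A A by
        rw [hdep]
        rcases Nat.eq_zero_or_pos n' with rfl | hpos
        · exact absurd (hdim.trans' (add_le_add_left hC0 1)) (by norm_num)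
        · exact_mod_cast hpos)
    haveI : IsLocalRing (A ⧸ Ideal.span {x₀}) := H4Goren.isLocalRing_quotient hx₀m
    haveI : LocCoh.IsGorensteinLocalRing (A ⧸ Ideal.span {x₀}) :=
      (H4Goren.isGorensteinLocalRing_quotient_iff hx₀m hx₀).mp ‹_›
    have hreg₁ := H3CAlg.GorMCM.isSMulRegular_quotient hI₁ hx₀
    have hreg₂ := H3CAlg.GorMCM.isSMulRegular_quotient hI₂ hx₀
    have hdimx := Module.supportDim_quotSMulTop_succ_eq_supportDim (M := A) hx₀ hx₀m
    rw [Module.supportDim_eq_of_equiv (Submodule.quotEquivOfEq (x₀ • (⊤ : Submodule A A)) (Ideal.span {x₀}) (by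
        rw [← Submodule.ideal_span_singleton_smul, smul_eq_mul, Ideal.mul_top])),
      Module.supportDim_quotient_eq_ringKrullDim, Module.supportDim_self_eq_ringKrullDim, hn] at hdimx
    rcases Nat.lt_or_ge n' 2 with hlt | hge
    · obtain rfl : n' = 1 := by
        rcases Nat.eq_zero_or_pos n' with rfl | hpos
        · exact absurd (hdim.trans' (add_le_add_left hC0 1)) (by norm_num)
        · omega
      have hC : ringKrullDim (A ⧸ (I₁ ⊔ I₂)) = 0 := by
        refine le_antisymm ?_ hC0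
        revert hdim
        induction ringKrullDim (A ⧸ (I₁ ⊔ I₂)) using WithBot.recBotCoe with
        | bot => exact fun _ => bot_le
        | coe a =>
          intro hdim
          have h1 : a + 1 ≤ ((1 : ℕ) : ℕ∞) := by exact_mod_cast hdim
          exact_mod_cast (ENat.add_le_add_iff_right ENat.one_ne_top).1 (h1.trans_eq (by norm_num : ((1 : ℕ) : ℕ∞) = 0 + 1))
      refine ⟨H02CA.GorFlat.gor_of_socleCyclic hC ?_, by rw [hC, zero_add, Nat.cast_one]⟩
      have hAx : ringKrullDim (A ⧸ Ideal.span {x₀}) = 0 := by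
        revert hdimx
        induction ringKrullDim (A ⧸ Ideal.span {x₀}) using WithBot.recBotCoe with
        | bot => intro h; rw [WithBot.bot_add] at h; exact absurd h.symm (WithBot.natCast_ne_bot _)
        | coe a =>
          intro h
          have h1 : a + 1 = (0 : ℕ∞) + 1 := by rw [zero_add]; exact_mod_cast h
          induction a using ENat.recTopCoe with
          | top => rw [top_add] at h1; exact absurd h1.symm (by simp)
          | coe a =>
            have h2 : a + 1 = 0 + 1 := by exact_mod_cast h1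
            exact_mod_cast (show a = 0 by omega)
      obtain ⟨w, hwm, hwgen⟩ := H02CA.GorFlat.socleCyclic_of_gor hAx ‹_›
      obtain ⟨z, hz0, hz⟩ := H02CA.GorFlat.exists_socle_ne_zero hC
      have lift : ∀ y : A, (∀ a ∈ maximalIdeal (A ⧸ (I₁ ⊔ I₂)), a * Ideal.Quotient.mk _ y = 0) →
          ∀ r ∈ maximalIdeal A, r * y ∈ I₁ ⊔ I₂ := fun y hy r hr => by
        rw [← Ideal.Quotient.eq_zero_iff_mem, map_mul]
        exact hy _ (hm r hr)
      have soc : ∀ i : A, (∀ r ∈ maximalIdeal A, r * i ∈ Ideal.span {x₀}) →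
          ∃ s, s * w = Ideal.Quotient.mk (Ideal.span {x₀}) i := fun i hi => by
        refine hwgen _ fun a ha => ?_
        obtain ⟨a, rfl⟩ := Ideal.Quotient.mk_surjective a
        rw [← map_mul, Ideal.Quotient.eq_zero_iff_mem]
        exact hi a fun hu => ha (hu.map _)
      obtain ⟨y₀, rfl⟩ := Ideal.Quotient.mk_surjective z
      obtain ⟨j₁, hj₁, j₂, hj₂, hj⟩ := Submodule.mem_sup.1 (lift y₀ hz x₀ hx₀m)
      obtain ⟨h0s, h0i⟩ := socle_transfer hinf hreg₂ hreg₁ (lift y₀ hz) hj₁ hj₂ hj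
      obtain ⟨t, ht⟩ := soc j₂ h0s
      have htu : IsUnit t := by
        by_contra hu
        refine hz0 (Ideal.Quotient.eq_zero_iff_mem.2 (h0i (Ideal.Quotient.eq_zero_iff_mem.1 ?_)))
        rw [← ht]
        exact hwm t hu
      obtain ⟨t, rfl⟩ := htu
      refine ⟨_, hz, fun y hy => ?_⟩
      obtain ⟨y, rfl⟩ := Ideal.Quotient.mk_surjective y
      obtain ⟨i₁, hi₁, i₂, hi₂, hi⟩ := Submodule.mem_sup.1 (lift y hy x₀ hx₀m)
      obtain ⟨s, hs⟩ := soc i₂ (socle_transfer hinf hreg₂ hreg₁ (lift y hy) hi₁ hi₂ hi).1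
      obtain ⟨q, hq⟩ := Ideal.Quotient.mk_surjective (s * (↑t⁻¹ : A ⧸ Ideal.span {x₀}))
      refine ⟨Ideal.Quotient.mk _ q, ?_⟩
      rw [← map_mul, eq_comm, Ideal.Quotient.eq]
      refine (socle_transfer hinf hreg₂ hreg₁ (P := maximalIdeal A) (i₁ := i₁ - q * j₁) (i₂ := i₂ - q * j₂)
        (fun r hr => ?_) (I₁.sub_mem hi₁ (I₁.mul_mem_left q hj₁)) (I₂.sub_mem hi₂ (I₂.mul_mem_left q hj₂))
        (by linear_combination hi - q * hj)).2 ?_
      · rw [mul_sub, ← mul_assoc, mul_comm r q, mul_assoc]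
        exact (I₁ ⊔ I₂).sub_mem (lift y hy r hr) ((I₁ ⊔ I₂).mul_mem_left q (lift y₀ hz r hr))
      · rw [← Ideal.Quotient.eq_zero_iff_mem, map_sub, map_mul, hq, ← ht, ← hs, mul_assoc s,
          Units.inv_mul_cancel_left, sub_self]
    · -- a common regular element
      have hassA : ∀ P ∈ associatedPrimes A A, ¬ maximalIdeal A ≤ P := fun P hP hle =>
        H4Depth.not_isSMulRegular_of_mem_associatedPrimes hP (hle hx₀m) hx₀
      have hassC : ∀ P ∈ associatedPrimes A (A ⧸ (I₁ ⊔ I₂)), ¬ maximalIdeal A ≤ P := fun P hP hle => by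
        obtain ⟨hprime, v, hv⟩ := isAssociatedPrime_iff.mp hP
        obtain ⟨y, rfl⟩ := Ideal.Quotient.mk_surjective v
        have hy : ∀ r ∈ maximalIdeal A, r * y ∈ I₁ ⊔ I₂ := fun r hr => by
          have h1 := hle hr
          rw [hv, Submodule.mem_colon_singleton, Submodule.mem_bot] at h1
          exact Ideal.Quotient.eq_zero_iff_mem.1 h1
        obtain ⟨i₁, hi₁, i₂, hi₂, hi⟩ := Submodule.mem_sup.1 (hy x₀ hx₀m)
        obtain ⟨hs, hinj⟩ := socle_transfer hinf hreg₂ hreg₁ hy hi₁ hi₂ hi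
        obtain ⟨m, hmdep, hmdim, -⟩ := H4Goren.depth_eq_ringKrullDim (A ⧸ Ideal.span {x₀})
        have hm1 : 1 ≤ m := by
          rw [hmdim] at hdimx
          have : m + 1 = n' := by exact_mod_cast hdimx
          omega
        obtain ⟨b, hbm, hb⟩ := (H4Depth.one_le_idealDepth_iff (R := A ⧸ Ideal.span {x₀}) (M := A ⧸ Ideal.span {x₀})
          H4Depth.maximalIdeal_smul_top_ne_top).mp
          (show (1 : ℕ∞) ≤ LocCoh.depth (A ⧸ Ideal.span {x₀}) (A ⧸ Ideal.span {x₀}) by rw [hmdep]; exact_mod_cast hm1)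
        obtain ⟨b, rfl⟩ := Ideal.Quotient.mk_surjective b
        have hi2x : i₂ ∈ Ideal.span {x₀} := Ideal.Quotient.eq_zero_iff_mem.1 (hb.right_eq_zero_of_smul
          (Ideal.Quotient.eq_zero_iff_mem.2 (hs b fun hu => hbm (hu.map _)) :
            Ideal.Quotient.mk (Ideal.span {x₀}) (b * i₂) = 0))
        refine hprime.ne_top ((Ideal.eq_top_iff_one _).2 ?_)
        rw [hv, Submodule.mem_colon_singleton, Submodule.mem_bot, one_smul]
        exact Ideal.Quotient.eq_zero_iff_mem.2 (hinj hi2x)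
      obtain ⟨x, hxm, hxA, hxC⟩ : ∃ x ∈ maximalIdeal A, IsSMulRegular A x ∧ IsSMulRegular (A ⧸ (I₁ ⊔ I₂)) x := by
        by_contra! hcon
        have hsub : (maximalIdeal A : Set A) ⊆ ⋃ P ∈ associatedPrimes A A ∪ associatedPrimes A (A ⧸ (I₁ ⊔ I₂)), (P : Set A) := by
          intro y hy
          rw [Set.biUnion_union, biUnion_associatedPrimes_eq_compl_regular, biUnion_associatedPrimes_eq_compl_regular]
          by_cases h : IsSMulRegular A y
          · exact Or.inr (hcon y hy h)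
          · exact Or.inl h
        obtain ⟨P, hP, hle⟩ := (Ideal.subset_union_prime_finite
          ((associatedPrimes.finite A A).union (associatedPrimes.finite A (A ⧸ (I₁ ⊔ I₂)))) ⊥ ⊥
          (fun P hP _ _ => hP.elim (fun h => IsAssociatedPrime.isPrime h) (fun h => IsAssociatedPrime.isPrime h))).mp hsub
        exact hP.elim (fun h => hassA P h hle) (fun h => hassC P h hle)
      let π := Ideal.Quotient.mk (Ideal.span {x})
      haveI : IsLocalRing (A ⧸ Ideal.span {x}) := H4Goren.isLocalRing_quotient hxm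
      haveI : LocCoh.IsGorensteinLocalRing (A ⧸ Ideal.span {x}) :=
        (H4Goren.isGorensteinLocalRing_quotient_iff hxm hxA).mp ‹_›
      obtain ⟨m, -, hm', -⟩ := H4Goren.depth_eq_ringKrullDim (A ⧸ Ideal.span {x})
      have hmn : m + 1 = n' := by
        have h := Module.supportDim_quotSMulTop_succ_eq_supportDim (M := A) hxA hxm
        rw [Module.supportDim_eq_of_equiv (Submodule.quotEquivOfEq (x • (⊤ : Submodule A A)) (Ideal.span {x}) (by
            rw [← Submodule.ideal_span_singleton_smul, smul_eq_mul, Ideal.mul_top])),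
          Module.supportDim_quotient_eq_ringKrullDim, Module.supportDim_self_eq_ringKrullDim, hn, hm'] at h
        exact_mod_cast h
      have hinf' : I₁.map π ⊓ I₂.map π = ⊥ := by
        rw [eq_bot_iff]
        rintro a ⟨ha1, ha2⟩
        obtain ⟨i₁, hi₁, rfl⟩ := (Ideal.mem_map_iff_of_surjective π Ideal.Quotient.mk_surjective).1 ha1
        obtain ⟨i₂, hi₂, he⟩ := (Ideal.mem_map_iff_of_surjective π Ideal.Quotient.mk_surjective).1 ha2
        obtain ⟨v, hv⟩ := Ideal.mem_span_singleton'.1 (Ideal.Quotient.eq.1 he.symm)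
        have hvI : v ∈ I₁ ⊔ I₂ := Ideal.Quotient.eq_zero_iff_mem.1 (hxC.right_eq_zero_of_smul
          (Ideal.Quotient.eq_zero_iff_mem.2 (by
            rw [mul_comm, hv]; exact (I₁ ⊔ I₂).sub_mem (Submodule.mem_sup_left hi₁) (Submodule.mem_sup_right hi₂)) :
            Ideal.Quotient.mk (I₁ ⊔ I₂) (x * v) = 0))
        obtain ⟨j₁, hj₁, j₂, hj₂, rfl⟩ := Submodule.mem_sup.1 hvI
        have hmem : i₁ - j₁ * x ∈ I₁ ⊓ I₂ := by
          refine ⟨I₁.sub_mem hi₁ (I₁.mul_mem_right x hj₁), ?_⟩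
          rw [show i₁ - j₁ * x = i₂ + j₂ * x by linear_combination -hv]
          exact I₂.add_mem hi₂ (I₂.mul_mem_right x hj₂)
        rw [hinf, Ideal.mem_bot, sub_eq_zero] at hmem
        rw [Ideal.mem_bot, Ideal.Quotient.eq_zero_iff_mem]
        exact Ideal.mem_span_singleton'.2 ⟨j₁, hmem.symm⟩
      let xb := Ideal.Quotient.mk (I₁ ⊔ I₂) x
      have hxb : xb ∈ maximalIdeal (A ⧸ (I₁ ⊔ I₂)) := hm x hxm
      have hregC : IsSMulRegular (A ⧸ (I₁ ⊔ I₂)) xb := hxC
      let e : (A ⧸ (I₁ ⊔ I₂)) ⧸ Ideal.span {xb} ≃+* (A ⧸ Ideal.span {x}) ⧸ (I₁.map π ⊔ I₂.map π) :=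
        ((Ideal.quotEquivOfEq (by rw [Ideal.map_span, Set.image_singleton])).trans
          (DoubleQuot.quotQuotEquivComm (I₁ ⊔ I₂) (Ideal.span {x}))).trans (Ideal.quotEquivOfEq (Ideal.map_sup ..))
      haveI : IsLocalRing ((A ⧸ (I₁ ⊔ I₂)) ⧸ Ideal.span {xb}) := H4Goren.isLocalRing_quotient hxb
      haveI : IsLocalRing ((A ⧸ Ideal.span {x}) ⧸ (I₁.map π ⊔ I₂.map π)) := e.isLocalRing
      have hd := Module.supportDim_quotSMulTop_succ_eq_supportDim (M := A ⧸ (I₁ ⊔ I₂)) (R := A ⧸ (I₁ ⊔ I₂)) hregC hxb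
      rw [Module.supportDim_eq_of_equiv (Submodule.quotEquivOfEq (xb • (⊤ : Submodule (A ⧸ (I₁ ⊔ I₂)) (A ⧸ (I₁ ⊔ I₂)))) (Ideal.span {xb}) (by
          rw [← Submodule.ideal_span_singleton_smul, smul_eq_mul, Ideal.mul_top])),
        Module.supportDim_quotient_eq_ringKrullDim, Module.supportDim_self_eq_ringKrullDim,
        ringKrullDim_eq_of_ringEquiv e] at hd
      have hdimC : ringKrullDim ((A ⧸ Ideal.span {x}) ⧸ (I₁.map π ⊔ I₂.map π)) + 1 = ringKrullDim (A ⧸ (I₁ ⊔ I₂)) := hd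
      obtain ⟨hg, hge'⟩ := ih m (by omega) hm' (I₁.map π) (I₂.map π)
        (H3CAlg.GorMCM.isMCMQuot_quotient hI₁ hxm hxA) (H3CAlg.GorMCM.isMCMQuot_quotient hI₂ hxm hxA) hinf'
        (fun h => by
          haveI : Subsingleton ((A ⧸ Ideal.span {x}) ⧸ (I₁.map π ⊔ I₂.map π)) := Ideal.Quotient.subsingleton_iff.2 h
          exact not_subsingleton ((A ⧸ Ideal.span {x}) ⧸ (I₁.map π ⊔ I₂.map π)) inferInstance) (by
          rw [hdimC]
          revert hdim
          induction ringKrullDim (A ⧸ (I₁ ⊔ I₂)) using WithBot.recBotCoe with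
          | bot => exact fun _ => bot_le
          | coe a =>
            intro h
            have h1 : a + 1 ≤ ((m : ℕ) : ℕ∞) + 1 := by rw [← hmn] at h; exact_mod_cast h
            exact_mod_cast (ENat.add_le_add_iff_right ENat.one_ne_top).1 h1)
      refine ⟨(H4Goren.isGorensteinLocalRing_quotient_iff hxb hregC).2 (H02CA.GorFlat.gor_of_ringEquiv e.symm hg), ?_⟩
      rw [← hdimC, hge', ← hmn]
      push_cast
      rfl

end Groth.Agent.H4Liaison

namespace Groth.Agent.H4Liaison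

theorem gor_of_geometricallyLinked {S : Type u} [CommRing S] [LocCoh.IsGorensteinRing S] (I₁ I₂ : Ideal S)
    (hinf : I₁ ⊓ I₂ = ⊥) [LocCoh.IsCohenMacaulayRing (S ⧸ I₁)] [LocCoh.IsCohenMacaulayRing (S ⧸ I₂)]
    (hm₁ : ∀ T ∈ I₁.minimalPrimes, T.height = 0) (hm₂ : ∀ T ∈ I₂.minimalPrimes, T.height = 0)
    (hdisj : ∀ T ∈ minimalPrimes S, ¬ I₁ ⊔ I₂ ≤ T) :
    LocCoh.IsGorensteinRing (S ⧸ (I₁ ⊔ I₂)) ∧ ∀ P ∈ (I₁ ⊔ I₂).minimalPrimes, P.height ≤ 1 := by
  haveI := H4Gr.PolyUnmixed.isCohenMacaulayRing_of_isGorensteinRing S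
  have loc : ∀ (p : Ideal S) [p.IsPrime], I₁ ⊔ I₂ ≤ p → ∀ n : ℕ, ringKrullDim (Localization.AtPrime p) = n →
      LocCoh.IsGorensteinLocalRing (Localization.AtPrime p ⧸ (I₁ ⊔ I₂).map (algebraMap S (Localization.AtPrime p))) ∧
        ringKrullDim (Localization.AtPrime p ⧸ (I₁ ⊔ I₂).map (algebraMap S (Localization.AtPrime p))) + 1 = n := by
    intro p _ hp n hn
    let A := Localization.AtPrime p
    haveI : LocCoh.IsGorensteinLocalRing A := LocCoh.IsGorensteinRing.isGorensteinLocalRing_localization p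
    haveI : LocCoh.IsCohenMacaulayLocalRing A := LocCoh.IsCohenMacaulayRing.isCohenMacaulayLocalRing_localization p
    have hmax : ∀ T : Ideal S, T ≤ p → T.map (algebraMap S A) ≠ ⊤ := fun T hT =>
      ne_top_of_le_ne_top (IsLocalRing.maximalIdeal.isMaximal A).ne_top
        ((Ideal.map_mono hT).trans Localization.AtPrime.map_eq_maximalIdeal.le)
    have hcomap : ∀ T : Ideal A, T.IsPrime → T.under S ≤ p := fun T hT => by
      haveI := hT
      exact (Ideal.comap_mono (IsLocalRing.le_maximalIdeal hT.ne_top)).trans Localization.AtPrime.under_maximalIdeal.le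
    have mcm : ∀ (I : Ideal S) [LocCoh.IsCohenMacaulayRing (S ⧸ I)], I ≤ p → (∀ T ∈ I.minimalPrimes, T.height = 0) →
        H3CAlg.GorMCM.IsMCMQuot A (I.map (algebraMap S A)) := by
      intro I _ hIp hm
      let g := Ideal.Quotient.mk I
      haveI : (p.map g).IsPrime := Ideal.map_isPrime_of_surjective Ideal.Quotient.mk_surjective (by rwa [Ideal.mk_ker])
      have hc : (p.map g).comap g = p := by
        rw [Ideal.comap_map_of_surjective' _ Ideal.Quotient.mk_surjective, Ideal.mk_ker, sup_eq_left.2 hIp]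
      haveI : IsLocalization ((p.map g).comap g).primeCompl A :=
        IsLocalization.of_le_of_exists_dvd p.primeCompl _ (fun x hx h => hx (hc ▸ h)) fun x hx =>
          ⟨x, fun h => hx (by rw [← hc] at h; exact h), dvd_rfl⟩
      obtain ⟨e'⟩ := H02CA.GorFlat.nonempty_equiv_quot g Ideal.Quotient.mk_surjective (p.map g) A
      haveI := LocCoh.IsCohenMacaulayRing.isCohenMacaulayLocalRing_localization (p.map g)
      haveI hcm : LocCoh.IsCohenMacaulayLocalRing (A ⧸ I.map (algebraMap S A)) :=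
        H8Props.CMAt.isCohenMacaulayLocalRing_of_ringEquiv (e'.symm.trans (Ideal.quotEquivOfEq (by
          rw [show RingHom.ker g = I from Ideal.mk_ker])))
      obtain ⟨Q, hQ, hQp⟩ := Ideal.exists_minimalPrimes_le hIp
      haveI := hQ.1.1
      have hdisj : Disjoint (p.primeCompl : Set S) (Q : Set S) := Set.disjoint_left.2 fun x hx hxQ => hx (hQp hxQ)
      haveI := IsLocalization.isPrime_of_isPrime_disjoint p.primeCompl A Q hQ.1.1 hdisj
      have hh : (Q.map (algebraMap S A)).height = Q.height :=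
        (IsLocalization.height_under p.primeCompl (Q.map (algebraMap S A))).symm.trans
          (congrArg Ideal.height (IsLocalization.under_map_of_isPrime_disjoint p.primeCompl A hQ.1.1 hdisj))
      have h1 := H05EGA4.height_add_dim_eq_of_isCohenMacaulay A (Q.map (algebraMap S A))
      rw [hh, hm Q hQ, WithBot.coe_zero, zero_add] at h1
      have hdim : ringKrullDim (A ⧸ I.map (algebraMap S A)) = ringKrullDim A :=
        le_antisymm (ringKrullDim_le_of_surjective _ Ideal.Quotient.mk_surjective)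
          (h1 ▸ ringKrullDim_le_of_surjective (Ideal.Quotient.factor (Ideal.map_mono hQ.1.2))
            (Ideal.Quotient.factor_surjective (Ideal.map_mono hQ.1.2)))
      have hd : LocCoh.depth (A ⧸ I.map (algebraMap S A)) (A ⧸ I.map (algebraMap S A)) = (n : ℕ∞) := by
        have h := (H8Props.FlatDepth.isCM_iff_dim (A ⧸ I.map (algebraMap S A))).mp hcm
        rw [hdim, hn] at h
        exact (WithBot.coe_injective h).symm
      exact ⟨hmax I hIp, n, hn,
        by rw [← H8Props.FlatDepth.depth_eq_of_surjective (R := A) (S := A ⧸ I.map (algebraMap S A))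
          (M := A ⧸ I.map (algebraMap S A)) Ideal.Quotient.mk_surjective, hd]⟩
    obtain ⟨x, hxI, hxmin⟩ : ∃ x ∈ (I₁ ⊔ I₂).map (algebraMap S A), ∀ T ∈ minimalPrimes A, x ∉ T := by
      by_contra! hcon
      obtain ⟨T, hT, hle⟩ := (Ideal.subset_union_prime_finite (minimalPrimes.finite_of_isNoetherianRing A) ⊥ ⊥
        (fun T hT _ _ => hT.1.1)).mp (fun x hx => by
          obtain ⟨T, hT, hxT⟩ := hcon x hx
          exact Set.mem_biUnion hT hxT)
      haveI := hT.1.1
      refine hdisj (T.under S) ?_ (Ideal.map_le_iff_le_comap.1 hle)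
      rw [minimalPrimes, ← Ideal.height_eq_zero_iff, IsLocalization.height_under p.primeCompl T, Ideal.height_eq_zero_iff]
      exact hT
    haveI : LocCoh.IsCohenMacaulayRing A :=
      { isCohenMacaulayLocalRing_localization := fun q _ => H8Props.StalkLocal.isCohenMacaulayLocalRing_localization A q }
    have hxreg : x ∈ nonZeroDivisors A := by
      rw [mem_nonZeroDivisors_iff_right]
      intro y hy
      by_contra hy0
      obtain ⟨P, hP, hle⟩ := exists_le_isAssociatedPrime_of_isNoetherianRing A y hy0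
      refine hxmin P (H1CAlg.hasSk_one_self_iff.1 (H4Gr.PolyUnmixed.hasSk_one_of_cm A) P hP) (hle ?_)
      rw [Submodule.mem_colon_singleton, Submodule.mem_bot, smul_eq_mul, mul_comm]
      exact hy
    have hdim : ringKrullDim (A ⧸ (I₁.map (algebraMap S A) ⊔ I₂.map (algebraMap S A))) + 1 ≤ n := by
      have hxle : Ideal.span {x} ≤ I₁.map (algebraMap S A) ⊔ I₂.map (algebraMap S A) := by
        rw [← Ideal.map_sup]
        exact (Ideal.span_singleton_le_iff_mem _).2 hxI
      refine (add_le_add_left (ringKrullDim_le_of_surjective (Ideal.Quotient.factor hxle)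
        (Ideal.Quotient.factor_surjective hxle)) 1).trans ?_
      exact (ringKrullDim_quotient_succ_le_of_nonZeroDivisor hxreg).trans hn.le
    have hinf' : I₁.map (algebraMap S A) ⊓ I₂.map (algebraMap S A) = ⊥ := by
      rw [eq_bot_iff]
      rintro z ⟨hz1, hz2⟩
      obtain ⟨a, s, rfl⟩ := IsLocalization.exists_mk'_eq p.primeCompl z
      obtain ⟨t₁, ht₁, h₁⟩ := (IsLocalization.mk'_mem_map_algebraMap_iff p.primeCompl A _ a s).1 hz1
      obtain ⟨t₂, ht₂, h₂⟩ := (IsLocalization.mk'_mem_map_algebraMap_iff p.primeCompl A _ a s).1 hz2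
      have h3 : t₁ * t₂ * a ∈ I₁ ⊓ I₂ :=
        ⟨by rw [mul_assoc, mul_left_comm]; exact I₁.mul_mem_left _ h₁, by rw [mul_assoc]; exact I₂.mul_mem_left _ h₂⟩
      rw [hinf, Ideal.mem_bot] at h3
      rw [Ideal.mem_bot, IsLocalization.mk'_eq_zero_iff]
      exact ⟨⟨t₁ * t₂, p.primeCompl.mul_mem ht₁ ht₂⟩, h3⟩
    rw [Ideal.map_sup]
    haveI : LocCoh.IsCohenMacaulayRing (S ⧸ I₁) := ‹_›
    exact gor_quot_sup n hn _ _ (mcm I₁ (le_sup_left.trans hp) hm₁) (mcm I₂ (le_sup_right.trans hp) hm₂) hinf'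
      (Ideal.map_sup (algebraMap S A) I₁ I₂ ▸ hmax _ hp) hdim
  constructor
  · haveI : IsNoetherianRing (S ⧸ (I₁ ⊔ I₂)) := inferInstance
    refine { isGorensteinLocalRing_localization := fun q _ => ?_ }
    let f := Ideal.Quotient.mk (I₁ ⊔ I₂)
    let p := q.comap f
    have hp : I₁ ⊔ I₂ ≤ p := fun x hx => by
      rw [Ideal.mem_comap, Ideal.Quotient.eq_zero_iff_mem.2 hx]
      exact q.zero_mem
    haveI := LocCoh.IsGorensteinRing.isGorensteinLocalRing_localization (A := S) p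
    obtain ⟨n, -, hn, -⟩ := H4Goren.depth_eq_ringKrullDim (Localization.AtPrime p)
    haveI := (loc p hp n hn).1
    exact H02CA.GorFlat.gor_of_ringEquiv ((Ideal.quotEquivOfEq
      (congrArg (Ideal.map (algebraMap S (Localization.AtPrime p))) (show I₁ ⊔ I₂ = RingHom.ker f from Ideal.mk_ker.symm))).trans
      (H26Grass.quotLocEquiv f Ideal.Quotient.mk_surjective q)) inferInstance
  · intro P hP
    haveI := hP.1.1
    haveI := LocCoh.IsGorensteinRing.isGorensteinLocalRing_localization (A := S) P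
    obtain ⟨n, -, hn, -⟩ := H4Goren.depth_eq_ringKrullDim (Localization.AtPrime P)
    obtain ⟨hg, he⟩ := loc P hP.1.2 n hn
    let A := Localization.AtPrime P
    have hzero : ringKrullDim (A ⧸ (I₁ ⊔ I₂).map (algebraMap S A)) ≤ 0 := by
      haveI : Ring.KrullDimLE 0 (A ⧸ (I₁ ⊔ I₂).map (algebraMap S A)) := by
        refine Ring.KrullDimLE.mk₀ fun T hT => ?_
        haveI := hT
        have hTc := hT.comap (Ideal.Quotient.mk ((I₁ ⊔ I₂).map (algebraMap S A)))
        have hle : (T.comap (Ideal.Quotient.mk _)).under S ≤ P :=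
          (Ideal.comap_mono (IsLocalRing.le_maximalIdeal hTc.ne_top)).trans Localization.AtPrime.under_maximalIdeal.le
        have hge : I₁ ⊔ I₂ ≤ (T.comap (Ideal.Quotient.mk _)).under S := fun x hx => by
          rw [Ideal.mem_comap, Ideal.mem_comap, Ideal.Quotient.eq_zero_iff_mem.2 (Ideal.mem_map_of_mem _ hx)]
          exact T.zero_mem
        have hEq : (T.comap (Ideal.Quotient.mk _)).under S = P :=
          le_antisymm hle (hP.2 ⟨hTc.comap _, hge⟩ hle)
        have h1 : T.comap (Ideal.Quotient.mk _) = maximalIdeal A := by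
          rw [← IsLocalization.map_under P.primeCompl A (T.comap (Ideal.Quotient.mk _)), hEq,
            Localization.AtPrime.map_eq_maximalIdeal]
        haveI : (T.comap (Ideal.Quotient.mk ((I₁ ⊔ I₂).map (algebraMap S A)))).IsMaximal := h1 ▸ maximalIdeal.isMaximal A
        have h2 := Ideal.map_comap_of_surjective (Ideal.Quotient.mk ((I₁ ⊔ I₂).map (algebraMap S A)))
          Ideal.Quotient.mk_surjective T
        exact (Ideal.map_eq_top_or_isMaximal_of_surjective (Ideal.Quotient.mk ((I₁ ⊔ I₂).map (algebraMap S A)))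
          Ideal.Quotient.mk_surjective ‹(T.comap _).IsMaximal›).resolve_left (h2.symm ▸ hT.ne_top) |> fun h => h2 ▸ h
      exact Ring.krullDimLE_iff.1 ‹_›
    have h0 : ringKrullDim (A ⧸ (I₁ ⊔ I₂).map (algebraMap S A)) = 0 := le_antisymm hzero (by
      haveI := hg
      exact ringKrullDim_nonneg_of_nontrivial)
    rw [h0, zero_add, ← hn, IsLocalization.AtPrime.ringKrullDim_eq_height P A] at he
    exact_mod_cast he.ge

end Groth.Agent.H4Liaison
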