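import Groth.Agent.H4Liaison.Hyper
import Groth.Agent.H4LC.LES
import Groth.Agent.H4LC.Depth
import Groth.Agent.H4Depth.FibreDepth
import Groth.Agent.H8Props.FieldDimHeight
import Groth.Agent.H26Grass.LocQuot

/-!
# Local cohomology of Cohen–Macaulay homogeneous quotients below the dimension
-/

set_option autoImplicit false
set_option linter.style.haveILetI false
set_option linter.unusedSectionVars false

universe u

open MvPolynomial GrSyz IsLocalRing CategoryTheory

namespace Groth.Agent.H4Liaison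

variable {K : Type u} [Field K] {n : ℕ}

local notation "𝐑" => MvPolynomial (Fin (n + 1)) K
local notation "𝒮" => GrSyz.stdGr K (Fin (n + 1))

theorem irrel_eq_origin : (GrSyz.irrel 𝒮).toIdeal = H4Gr.PolyUnmixed.origin K (Fin (n + 1)) :=
  Ideal.ext fun c => by rw [H3CAlg.Syz.mem_irrel_iff, RingHom.mem_ker]

theorem height_origin : (H4Gr.PolyUnmixed.origin K (Fin (n + 1))).height = ((n + 1 : ℕ) : ℕ∞) := by
  have h := H8Props.FieldDim.height_add_dim_quotient K 𝐑 (H4Gr.PolyUnmixed.origin K (Fin (n + 1)))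
  rw [ringKrullDim_eq_zero_of_isField ((Ideal.Quotient.maximal_ideal_iff_isField_quotient _).1 inferInstance),
    add_zero, MvPolynomial.ringKrullDim_of_isNoetherianRing, ringKrullDim_eq_zero_of_field, zero_add] at h
  rw [Nat.card_fin] at h
  exact_mod_cast h

/-- The depth of a Cohen–Macaulay homogeneous quotient at the irrelevant ideal. -/
theorem le_idealDepth_irrel (T : Ideal 𝐑) (hT : T.IsHomogeneous 𝒮) [LocCoh.IsCohenMacaulayRing (𝐑 ⧸ T)]
    {c k : ℕ} (hTc : T.height = c) (hk : k + c ≤ n + 1) :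
    (k : ℕ∞) ≤ LocCoh.idealDepth (GrSyz.irrel 𝒮).toIdeal (𝐑 ⧸ T) := by
  have hne : T ≠ ⊤ := fun h => by simp [h] at hTc
  rw [irrel_eq_origin, ← H8Props.FlatDepth.idealDepth_map_of_surjective (R := 𝐑) (S := 𝐑 ⧸ T) Ideal.Quotient.mk_surjective]
  refine H4Depth.le_idealDepth_of_forall _ _ fun q hq => ?_
  set f := Ideal.Quotient.mk T with hf
  have hqo : q.asIdeal.comap f = H4Gr.PolyUnmixed.origin K (Fin (n + 1)) :=
    (Ideal.IsMaximal.eq_of_le inferInstance (Ideal.IsPrime.ne_top (Ideal.IsPrime.comap f))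
      (Ideal.map_le_iff_le_comap.1 hq)).symm
  obtain ⟨e⟩ := H4Depth.exists_localizedModule_self_equiv q.asIdeal
  haveI hcm := LocCoh.IsCohenMacaulayRing.isCohenMacaulayLocalRing_localization q.asIdeal
  rw [H4Depth.depth_congr e]
  have h2 := (H8Props.FlatDepth.isCM_iff_dim (Localization.AtPrime q.asIdeal)).1 hcm
  suffices h : ((k : ℕ∞) : WithBot ℕ∞) ≤ ringKrullDim (Localization.AtPrime q.asIdeal) by
    rw [h2] at h
    exact WithBot.coe_le_coe.1 h
  let L := Localization.AtPrime (q.asIdeal.comap f)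
  rw [← H26Grass.supportDim_quot_eq f Ideal.Quotient.mk_surjective q.asIdeal, hf, Ideal.mk_ker, ← hf]
  haveI : LocCoh.IsCohenMacaulayLocalRing L := H4Gr.PolyUnmixed.cmLocal_polynomial _
  obtain ⟨Q, hQ⟩ := T.nonempty_minimalPrimes hne
  haveI := hQ.1.1
  have hQo : Q ≤ q.asIdeal.comap f :=
    hqo.symm ▸ H4Gr.PolyUnmixed.le_origin (H4Gr.PolyUnmixed.isHomogeneous_minimalPrimes hT hQ) hQ.1.1.ne_top
  have hdisj : Disjoint ((q.asIdeal.comap f).primeCompl : Set 𝐑) (Q : Set 𝐑) :=
    Set.disjoint_left.2 fun x hx hxQ => hx (hQo hxQ)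
  haveI := IsLocalization.isPrime_of_isPrime_disjoint (q.asIdeal.comap f).primeCompl L Q hQ.1.1 hdisj
  have h3 := H05EGA4.height_add_dim_eq_of_isCohenMacaulay L (Q.map (algebraMap 𝐑 L))
  have hh : (Q.map (algebraMap 𝐑 L)).height = Q.height :=
    (IsLocalization.height_comap (q.asIdeal.comap f).primeCompl (Q.map (algebraMap 𝐑 L))).symm.trans
      (congrArg Ideal.height (IsLocalization.comap_map_of_isPrime_disjoint (q.asIdeal.comap f).primeCompl L hQ.1.1 hdisj))
  rw [hh, H4Gr.PolyUnmixed.height_minimalPrimes_eq T hT hQ, hTc,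
    IsLocalization.AtPrime.ringKrullDim_eq_height (q.asIdeal.comap f) L,
    (congrArg Ideal.height hqo).trans height_origin] at h3
  have h4 : ringKrullDim (L ⧸ Q.map (algebraMap 𝐑 L)) ≤ ringKrullDim (L ⧸ T.map (algebraMap 𝐑 L)) :=
    ringKrullDim_le_of_surjective (Ideal.Quotient.factor (Ideal.map_mono hQ.1.2))
      (Ideal.Quotient.factor_surjective (Ideal.map_mono hQ.1.2))
  refine le_trans ?_ h4
  revert h3
  induction ringKrullDim (L ⧸ Q.map (algebraMap 𝐑 L)) using WithBot.recBotCoe with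
  | bot => intro h3; rw [WithBot.add_bot] at h3; exact absurd h3.symm WithBot.coe_ne_bot
  | coe a =>
    intro h3
    have h5 : (c : ℕ∞) + a = ((n + 1 : ℕ) : ℕ∞) := by exact_mod_cast h3
    induction a using ENat.recTopCoe with
    | top => rw [add_top] at h5; exact absurd h5.symm (ENat.natCast_ne_top _)
    | coe a =>
      have h6 : c + a = n + 1 := by exact_mod_cast h5
      exact_mod_cast (show k ≤ a by omega)

theorem subsingleton_H_irrel (T : Ideal 𝐑) (hT : T.IsHomogeneous 𝒮) [LocCoh.IsCohenMacaulayRing (𝐑 ⧸ T)]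
    {c j : ℕ} (hTc : T.height = c) (hj : j + c ≤ n) :
    Subsingleton (LocCoh.H (GrSyz.irrel 𝒮).toIdeal j (𝐑 ⧸ T)) :=
  H4LC.subsingleton_H_of_lt_idealDepth _ _ (lt_of_lt_of_le (by exact_mod_cast Nat.lt_succ_self j)
    (le_idealDepth_irrel T hT hTc (k := j + 1) (by omega)))

end Groth.Agent.H4Liaison
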