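import Groth.Agent.H4Gr.PolyUnmixed
import Groth.Agent.H3CAlg.GorMCM
import Groth.Agent.H26Grass.LocQuot
import Groth.Agent.H8Props.StalkLocal
import Mathlib.RingTheory.Ideal.AssociatedPrime.Localization

/-!
# Linkage preserves the Cohen–Macaulay property
-/

set_option autoImplicit false
set_option linter.style.haveILetI false

universe u

open IsLocalRing

namespace Groth.Agent.H4Liaison

/-- Local linkage over a Gorenstein ring. -/
theorem isCohenMacaulayLocalRing_quot_annihilator {A : Type u} [CommRing A] [LocCoh.IsGorensteinLocalRing A]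
    (I : Ideal A) [LocCoh.IsCohenMacaulayLocalRing (A ⧸ I)] (hI : ringKrullDim (A ⧸ I) = ringKrullDim A)
    [IsLocalRing (A ⧸ Submodule.annihilator I)] :
    LocCoh.IsCohenMacaulayLocalRing (A ⧸ Submodule.annihilator I) := by
  obtain ⟨n, hdep, hn, -⟩ := H4Goren.depth_eq_ringKrullDim A
  have hd : LocCoh.depth (A ⧸ I) (A ⧸ I) = (n : ℕ∞) := by
    have h := (H8Props.FlatDepth.isCM_iff_dim (A ⧸ I)).mp ‹_›
    rw [hI, hn] at h
    exact (WithBot.coe_injective h).symm
  have hne : I ≠ ⊤ := fun h => by
    haveI : Subsingleton (A ⧸ I) := Ideal.Quotient.subsingleton_iff.mpr h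
    exact not_subsingleton (A ⧸ I) inferInstance
  have hMCM : H3CAlg.GorMCM.IsMCMQuot A I := ⟨hne, n, hn,
    by rw [← H8Props.FlatDepth.depth_eq_of_surjective (R := A) (S := A ⧸ I) (M := A ⧸ I)
      Ideal.Quotient.mk_surjective, hd]⟩
  obtain ⟨rs, hlen, hmem, hreg⟩ := H4Depth.exists_isWeaklyRegular_of_le_idealDepth
    (H4Depth.maximalIdeal_smul_top_ne_top (R := A) (M := A)) (n := n)
    (le_of_eq (show (n : ℕ∞) = LocCoh.idealDepth (maximalIdeal A) A from hdep.symm))
  have h2 := (H3CAlg.GorMCM.isWeaklyRegular_quotient rs I hMCM hmem hreg).2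
  have h3 : (n : ℕ∞) ≤ LocCoh.depth (A ⧸ Submodule.annihilator I) (A ⧸ Submodule.annihilator I) := by
    rw [H8Props.FlatDepth.depth_eq_of_surjective (R := A) (S := A ⧸ Submodule.annihilator I)
      (M := A ⧸ Submodule.annihilator I) Ideal.Quotient.mk_surjective, ← hlen]
    exact H4Depth.length_le_idealDepth h2 hmem
  rw [H8Props.FlatDepth.isCM_iff_dim]
  refine le_antisymm ?_ ?_
  · calc ringKrullDim (A ⧸ Submodule.annihilator I) ≤ ringKrullDim A :=
          ringKrullDim_le_of_surjective _ Ideal.Quotient.mk_surjective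
      _ = ((n : ℕ∞) : WithBot ℕ∞) := hn
      _ ≤ _ := WithBot.coe_le_coe.mpr h3
  · have := H4Depth.depth_le_supportDim (R := A ⧸ Submodule.annihilator I) (M := A ⧸ Submodule.annihilator I)
    rwa [Module.supportDim_self_eq_ringKrullDim] at this

theorem map_annihilator {S : Type u} [CommRing S] [IsNoetherianRing S] (A : Type u) [CommRing A] [Algebra S A]
    (M : Submonoid S) [IsLocalization M A] (I : Ideal S) :
    (Submodule.annihilator I).map (algebraMap S A) = Submodule.annihilator (I.map (algebraMap S A)) := by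
  refine le_antisymm (Ideal.map_le_iff_le_comap.2 fun a ha => Submodule.mem_annihilator.2 fun z hz => ?_) fun z hz => ?_
  · have h : I.map (algebraMap S A) ≤ LinearMap.ker (LinearMap.lsmul A A (algebraMap S A a)) :=
      Ideal.map_le_iff_le_comap.2 fun i hi => by
        change algebraMap S A a * algebraMap S A i = 0
        rw [← map_mul, show a * i = 0 from Submodule.mem_annihilator.1 ha i hi, map_zero]
    exact h hz
  · classical
    obtain ⟨G, hG⟩ := IsNoetherian.noetherian I
    obtain ⟨a, s, rfl⟩ := IsLocalization.exists_mk'_eq M z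
    have hkill : ∀ g : S, ∃ t ∈ M, g ∈ I → t * (a * g) = 0 := fun g => by
      by_cases hg : g ∈ I
      · have h1 : IsLocalization.mk' A a s * algebraMap S A g = 0 :=
          Submodule.mem_annihilator.1 hz _ (Ideal.mem_map_of_mem _ hg)
        have h2 : algebraMap S A (a * g) = 0 := by
          rw [map_mul, ← IsLocalization.mk'_spec A a s, mul_right_comm, h1, zero_mul]
        obtain ⟨⟨t, ht⟩, hts⟩ := (IsLocalization.map_eq_zero_iff M A _).1 h2
        exact ⟨t, ht, fun _ => hts⟩
      · exact ⟨1, M.one_mem, fun h => absurd h hg⟩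
    choose t ht hty using hkill
    refine (IsLocalization.mk'_mem_map_algebraMap_iff M A _ a s).2
      ⟨∏ g ∈ G, t g, prod_mem fun g _ => ht g, Submodule.mem_annihilator.2 fun i hi => ?_⟩
    have hle : I ≤ LinearMap.ker (LinearMap.lsmul S S ((∏ g ∈ G, t g) * a)) := by
      rw [← hG, Submodule.span_le]
      intro g hg
      change (∏ g ∈ G, t g) * a * g = 0
      rw [← Finset.prod_erase_mul G t hg, mul_assoc, mul_assoc, hty g (hG ▸ Submodule.subset_span hg), mul_zero]
    exact hle hi

/-- An associated prime of an annihilator quotient is associated to the ring. -/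
theorem mem_associatedPrimes_of_annihilator {S : Type u} [CommRing S] [IsNoetherianRing S] (J : Ideal S) {P : Ideal S}
    (hP : P ∈ associatedPrimes S (S ⧸ Submodule.annihilator J)) : P ∈ associatedPrimes S S := by
  obtain ⟨hPp, z, hz⟩ := isAssociatedPrime_iff.mp hP
  obtain ⟨z, rfl⟩ := Ideal.Quotient.mk_surjective z
  obtain ⟨G, hG⟩ := IsNoetherian.noetherian J
  have hP_eq : ∀ a, a ∈ P ↔ ∀ g ∈ G, a ∈ (⊥ : Submodule S S).colon {z * g} := fun a => by
    rw [hz, Submodule.mem_colon_singleton, Submodule.mem_bot]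
    refine (Ideal.Quotient.eq_zero_iff_mem (a := a * z)).trans ?_
    rw [Submodule.mem_annihilator]
    refine ⟨fun h g hg => ?_, fun h x hx => ?_⟩
    · rw [Submodule.mem_colon_singleton, Submodule.mem_bot, smul_eq_mul, ← mul_assoc]
      exact h g (hG ▸ Submodule.subset_span hg)
    · have hle : J ≤ LinearMap.ker (LinearMap.lsmul S S (a * z)) := by
        rw [← hG, Submodule.span_le]
        intro g hg
        have h1 := h g hg
        rw [Submodule.mem_colon_singleton, Submodule.mem_bot, smul_eq_mul, ← mul_assoc] at h1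
        exact h1
      exact hle hx
  have hle : G.inf (fun g => (⊥ : Submodule S S).colon {z * g}) ≤ P :=
    fun a ha => (hP_eq a).2 (Submodule.mem_finsetInf.1 ha)
  obtain ⟨g, hg, hgP⟩ := (Ideal.IsPrime.inf_le' hPp).1 hle
  exact isAssociatedPrime_iff.mpr ⟨hPp, z * g, le_antisymm (fun a ha => (hP_eq a).1 ha g hg) hgP⟩

/-- If `I = 0 : J` and `J = 0 : I` in a Gorenstein ring and `S ⧸ I` is Cohen–Macaulay, so is `S ⧸ J`. -/
theorem isCohenMacaulayRing_of_linked {S : Type u} [CommRing S] [LocCoh.IsGorensteinRing S] (I J : Ideal S)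
    (hJ : Submodule.annihilator I = J) (hI : Submodule.annihilator J = I) [LocCoh.IsCohenMacaulayRing (S ⧸ I)] :
    LocCoh.IsCohenMacaulayRing (S ⧸ J) := by
  haveI := H4Gr.PolyUnmixed.isCohenMacaulayRing_of_isGorensteinRing S
  constructor
  intro q _
  let f := Ideal.Quotient.mk J
  let p := q.comap f
  let A := Localization.AtPrime p
  haveI : LocCoh.IsGorensteinLocalRing A := LocCoh.IsGorensteinRing.isGorensteinLocalRing_localization p
  haveI : LocCoh.IsCohenMacaulayLocalRing A := LocCoh.IsCohenMacaulayRing.isCohenMacaulayLocalRing_localization p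
  let e := H26Grass.quotLocEquiv f Ideal.Quotient.mk_surjective q
  haveI : IsLocalRing (A ⧸ (RingHom.ker f).map (algebraMap S A)) := e.symm.isLocalRing
  have hker : (RingHom.ker f).map (algebraMap S A) = Submodule.annihilator (I.map (algebraMap S A)) := by
    exact (congrArg (Ideal.map (algebraMap S A)) ((show RingHom.ker f = J from Ideal.mk_ker).trans hJ.symm)).trans
      (map_annihilator A p.primeCompl I)
  suffices h : LocCoh.IsCohenMacaulayLocalRing (A ⧸ (RingHom.ker f).map (algebraMap S A)) from
    H8Props.CMAt.isCohenMacaulayLocalRing_of_ringEquiv e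
  by_cases htop : I.map (algebraMap S A) = ⊤
  · have hbot : (RingHom.ker f).map (algebraMap S A) = ⊥ := by
      rw [hker, htop]
      exact (Submodule.eq_bot_iff _).2 fun x hx => by
        simpa using Submodule.mem_annihilator.1 hx 1 Submodule.mem_top
    exact H8Props.CMAt.isCohenMacaulayLocalRing_of_ringEquiv
      ((RingEquiv.quotientBot A).symm.trans (Ideal.quotEquivOfEq hbot.symm))
  · have hIp : I ≤ p := fun x hx => by
      by_contra hxp
      exact htop (Ideal.eq_top_of_isUnit_mem _ (Ideal.mem_map_of_mem _ hx)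
        (IsLocalization.map_units A (⟨x, hxp⟩ : p.primeCompl)))
    let g := Ideal.Quotient.mk I
    haveI : (p.map g).IsPrime := Ideal.map_isPrime_of_surjective Ideal.Quotient.mk_surjective (by rwa [Ideal.mk_ker])
    have hc : (p.map g).comap g = p := by
      rw [Ideal.comap_map_of_surjective' _ Ideal.Quotient.mk_surjective, Ideal.mk_ker, sup_eq_left.2 hIp]
    haveI : IsLocalization ((p.map g).comap g).primeCompl A :=
      IsLocalization.of_le_of_exists_dvd p.primeCompl _ (fun x hx h => hx (hc ▸ h)) fun x hx =>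
        ⟨x, fun h => hx (by rw [← hc] at h; exact h), dvd_rfl⟩
    obtain ⟨e'⟩ := H02CA.GorFlat.nonempty_equiv_quot g Ideal.Quotient.mk_surjective (p.map g) A
    haveI := LocCoh.IsCohenMacaulayRing.isCohenMacaulayLocalRing_localization (p.map g)
    have hker' : (RingHom.ker g).map (algebraMap S A) = I.map (algebraMap S A) := by
      rw [show RingHom.ker g = I from Ideal.mk_ker]
    haveI : LocCoh.IsCohenMacaulayLocalRing (A ⧸ I.map (algebraMap S A)) :=
      H8Props.CMAt.isCohenMacaulayLocalRing_of_ringEquiv (e'.symm.trans (Ideal.quotEquivOfEq hker'))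
    obtain ⟨Q, hQ, hQp⟩ := Ideal.exists_minimalPrimes_le hIp
    haveI := hQ.1.1
    have hQS : Q ∈ associatedPrimes S S := mem_associatedPrimes_of_annihilator J (by
      rw [hI]
      exact Module.associatedPrimes.minimalPrimes_annihilator_subset_associatedPrimes _ _ (by rwa [Ideal.annihilator_quotient]))
    have hQ0 : Q.height = 0 := Ideal.height_eq_zero_iff.2
      (H1CAlg.hasSk_one_self_iff.1 (H4Gr.PolyUnmixed.hasSk_one_of_cm S) Q hQS)
    have hdisj : Disjoint (p.primeCompl : Set S) (Q : Set S) := Set.disjoint_left.2 fun x hx hxQ => hx (hQp hxQ)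
    haveI := IsLocalization.isPrime_of_isPrime_disjoint p.primeCompl A Q hQ.1.1 hdisj
    have hh : (Q.map (algebraMap S A)).height = Q.height :=
      (IsLocalization.height_under p.primeCompl (Q.map (algebraMap S A))).symm.trans
        (congrArg Ideal.height (IsLocalization.under_map_of_isPrime_disjoint p.primeCompl A hQ.1.1 hdisj))
    have h1 := H05EGA4.height_add_dim_eq_of_isCohenMacaulay A (Q.map (algebraMap S A))
    rw [hh, hQ0, WithBot.coe_zero, zero_add] at h1
    have hdim : ringKrullDim (A ⧸ I.map (algebraMap S A)) = ringKrullDim A :=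
      le_antisymm (ringKrullDim_le_of_surjective _ Ideal.Quotient.mk_surjective)
        (h1 ▸ ringKrullDim_le_of_surjective (Ideal.Quotient.factor (Ideal.map_mono hQ.1.2))
          (Ideal.Quotient.factor_surjective (Ideal.map_mono hQ.1.2)))
    haveI : IsLocalRing (A ⧸ Submodule.annihilator (I.map (algebraMap S A))) :=
      ((Ideal.quotEquivOfEq hker.symm).trans e).symm.isLocalRing
    haveI := isCohenMacaulayLocalRing_quot_annihilator (I.map (algebraMap S A)) hdim
    exact H8Props.CMAt.isCohenMacaulayLocalRing_of_ringEquiv (Ideal.quotEquivOfEq hker.symm)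

end Groth.Agent.H4Liaison

namespace Groth.Agent.H4Liaison

theorem isCohenMacaulayRing_of_ringEquiv {A B : Type u} [CommRing A] [CommRing B] (e : A ≃+* B)
    [LocCoh.IsCohenMacaulayRing A] : LocCoh.IsCohenMacaulayRing B := by
  haveI : IsNoetherianRing B := isNoetherianRing_of_ringEquiv A e
  constructor
  intro q _
  haveI := LocCoh.IsCohenMacaulayRing.isCohenMacaulayLocalRing_localization (q.comap e.toRingHom)
  exact H8Props.CMAt.isCohenMacaulayLocalRing_of_ringEquiv
    (IsLocalization.ringEquivOfRingEquiv (M := (q.comap e.toRingHom).primeCompl) (T := q.primeCompl)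
      (Localization.AtPrime (q.comap e.toRingHom)) (Localization.AtPrime q) e
      (by
        ext x
        refine ⟨fun ⟨y, hy, hxy⟩ => ?_, fun h => ⟨e.symm x, fun hx => h ?_, e.apply_symm_apply x⟩⟩
        · rw [← hxy]; exact hy
        · have h' : e (e.symm x) ∈ q := hx
          rwa [e.apply_symm_apply] at h'))

/-- Linkage by a Gorenstein ideal preserves the Cohen–Macaulay property. -/
theorem isCohenMacaulayRing_quot_of_linked {R : Type u} [CommRing R] (c I J : Ideal R)
    [LocCoh.IsGorensteinRing (R ⧸ c)] (hIJ : c.colon (I : Set R) = J) (hJI : c.colon (J : Set R) = I)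
    (h : LocCoh.IsCohenMacaulayRing (R ⧸ I)) : LocCoh.IsCohenMacaulayRing (R ⧸ J) := by
  have key : ∀ I J : Ideal R, c.colon (I : Set R) = J →
      Submodule.annihilator (I.map (Ideal.Quotient.mk c)) = J.map (Ideal.Quotient.mk c) := fun I J hIJ => by
    refine le_antisymm (fun z hz => ?_) (Ideal.map_le_iff_le_comap.2 fun a ha => ?_)
    · obtain ⟨a, rfl⟩ := Ideal.Quotient.mk_surjective z
      refine Ideal.mem_map_of_mem _ (hIJ ▸ Submodule.mem_colon.2 fun i hi => ?_)
      exact Ideal.Quotient.eq_zero_iff_mem.1 (Submodule.mem_annihilator.1 hz _ (Ideal.mem_map_of_mem _ hi))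
    · rw [← hIJ] at ha
      refine Submodule.mem_annihilator.2 fun z hz => ?_
      obtain ⟨i, hi, rfl⟩ := (Ideal.mem_map_iff_of_surjective _ Ideal.Quotient.mk_surjective).1 hz
      exact Ideal.Quotient.eq_zero_iff_mem.2 (Submodule.mem_colon.1 ha i hi)
  have hle : ∀ T : Ideal R, c ≤ c.colon (T : Set R) := fun T a ha =>
    Submodule.mem_colon.2 fun x _ => c.mul_mem_right x ha
  haveI := isCohenMacaulayRing_of_ringEquiv
    (DoubleQuot.quotQuotEquivQuotOfLE (hJI ▸ hle J : c ≤ I)).symm
  haveI := isCohenMacaulayRing_of_linked _ _ (key I J hIJ) (key J I hJI)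
  exact isCohenMacaulayRing_of_ringEquiv (DoubleQuot.quotQuotEquivQuotOfLE (hIJ ▸ hle I : c ≤ J))

end Groth.Agent.H4Liaison
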