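import Groth.Agent.H4Liaison.LinkCM
import Groth.Agent.H02CA.GorFlat

/-!
# The link of an almost complete intersection is Gorenstein
-/

set_option autoImplicit false
set_option linter.style.haveILetI false

universe u

open IsLocalRing
open scoped Pointwise

namespace Groth.Agent.H4Liaison

theorem gor_quot_ann_of_dim_zero {A : Type u} [CommRing A] [LocCoh.IsGorensteinLocalRing A]
    (h0 : ringKrullDim A = 0) (f : A) [IsLocalRing (A ⧸ Submodule.annihilator (Ideal.span {f}))] :
    LocCoh.IsGorensteinLocalRing (A ⧸ Submodule.annihilator (Ideal.span {f})) := by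
  set J := Submodule.annihilator (Ideal.span {f})
  have hJ : ∀ y : A, y ∈ J ↔ y * f = 0 := fun y => Submodule.mem_annihilator_span_singleton f y
  have hB0 : ringKrullDim (A ⧸ J) = 0 :=
    le_antisymm ((ringKrullDim_le_of_surjective _ Ideal.Quotient.mk_surjective).trans h0.le) ringKrullDim_nonneg_of_nontrivial
  refine H02CA.GorFlat.gor_of_socleCyclic hB0 ?_
  obtain ⟨z, hz, hzy⟩ := H02CA.GorFlat.socleCyclic_of_gor h0 ‹_›
  haveI : Ring.KrullDimLE 0 A := Ring.krullDimLE_iff.2 h0.le
  have hf : f ≠ 0 := fun h => by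
    have h1 : (1 : A) ∈ J := (hJ 1).2 (by rw [h, mul_zero])
    haveI : Subsingleton (A ⧸ J) := Ideal.Quotient.subsingleton_iff.2 ((Ideal.eq_top_iff_one _).2 h1)
    exact not_subsingleton (A ⧸ J) inferInstance
  haveI : Nontrivial (Ideal.span {f} : Ideal A) :=
    nontrivial_of_ne ⟨f, Ideal.mem_span_singleton_self f⟩ 0 fun h => hf (congrArg Subtype.val h)
  obtain ⟨p, hp⟩ := associatedPrimes.nonempty A (Ideal.span {f} : Ideal A)
  obtain ⟨hprime, ⟨v, hv'⟩, hv⟩ := isAssociatedPrime_iff.mp hp
  obtain rfl : p = maximalIdeal A := IsLocalRing.eq_maximalIdeal (Ideal.IsPrime.isMaximal' hprime)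
  have hv0 : v ≠ 0 := fun h => hprime.ne_top ((Ideal.eq_top_iff_one _).2 (by
    rw [hv, Submodule.mem_colon_singleton, Submodule.mem_bot]
    exact Subtype.ext (by simp [h])))
  have hvm : ∀ a ∈ maximalIdeal A, a * v = 0 := fun a ha => by
    rw [hv, Submodule.mem_colon_singleton, Submodule.mem_bot] at ha
    exact congrArg Subtype.val ha
  obtain ⟨r, hr⟩ := hzy v hvm
  have hru : IsUnit r := by
    by_contra hr'
    exact hv0 (hr ▸ hz r hr')
  obtain ⟨u, rfl⟩ := hru
  obtain ⟨w, hw⟩ := Ideal.mem_span_singleton'.1 hv'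
  refine ⟨Ideal.Quotient.mk J (↑u⁻¹ * w), fun a ha => ?_, fun y hy => ?_⟩
  · obtain ⟨a, rfl⟩ := Ideal.Quotient.mk_surjective a
    have ha' : a ∈ maximalIdeal A := fun hu => ha (hu.map _)
    rw [← map_mul, Ideal.Quotient.eq_zero_iff_mem, hJ, mul_assoc, mul_assoc, hw, ← hr,
      Units.inv_mul_cancel_left, hz a ha']
  · obtain ⟨y, rfl⟩ := Ideal.Quotient.mk_surjective y
    have hyf : ∀ a ∈ maximalIdeal A, a * (y * f) = 0 := fun a ha => by
      rw [← mul_assoc, ← hJ, ← Ideal.Quotient.eq_zero_iff_mem, map_mul]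
      exact hy _ ((IsLocalRing.map_maximalIdeal_of_surjective _ Ideal.Quotient.mk_surjective).le (Ideal.mem_map_of_mem _ ha))
    obtain ⟨s, hs⟩ := hzy _ hyf
    refine ⟨Ideal.Quotient.mk J s, ?_⟩
    rw [← map_mul, Ideal.Quotient.eq, hJ, sub_mul, mul_assoc, mul_assoc, hw, ← hr, Units.inv_mul_cancel_left, hs, sub_self]

/-- The link `0 : f` of a maximal Cohen–Macaulay quotient `A ⧸ (f)` is Gorenstein. -/
theorem gor_quot_ann : ∀ (n : ℕ) {A : Type u} [CommRing A] [LocCoh.IsGorensteinLocalRing A],
    ringKrullDim A = n → ∀ f : A, H3CAlg.GorMCM.IsMCMQuot A (Ideal.span {f}) →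
    ∀ [IsLocalRing (A ⧸ Submodule.annihilator (Ideal.span {f}))],
    LocCoh.IsGorensteinLocalRing (A ⧸ Submodule.annihilator (Ideal.span {f})) := by
  intro n
  induction n using Nat.strong_induction_on with
  | _ n ih =>
    intro A _ _ hn f hI _
    rcases Nat.eq_zero_or_pos n with rfl | hpos
    · exact gor_quot_ann_of_dim_zero (by exact_mod_cast hn) f
    obtain ⟨n', hdep, hn'', -⟩ := H4Goren.depth_eq_ringKrullDim A
    obtain rfl : n' = n := by rw [hn] at hn''; exact_mod_cast hn''.symm
    obtain ⟨x, hxm, hreg⟩ := (H4Depth.one_le_idealDepth_iff (R := A) (M := A) H4Depth.maximalIdeal_smul_top_ne_top).mp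
      (show (1 : ℕ∞) ≤ LocCoh.depth A A by rw [hdep]; exact_mod_cast hpos)
    let π := Ideal.Quotient.mk (Ideal.span {x})
    haveI : IsLocalRing (A ⧸ Ideal.span {x}) := H4Goren.isLocalRing_quotient hxm
    haveI : LocCoh.IsGorensteinLocalRing (A ⧸ Ideal.span {x}) :=
      (H4Goren.isGorensteinLocalRing_quotient_iff hxm hreg).mp ‹_›
    set J := Submodule.annihilator (Ideal.span {f})
    have hI' := H3CAlg.GorMCM.isMCMQuot_quotient hI hxm hreg
    rw [Ideal.map_span, Set.image_singleton] at hI'
    have hann : Submodule.annihilator (Ideal.span {π f}) = J.map π := by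
      refine le_antisymm (fun z hz => ?_) (Ideal.map_le_iff_le_comap.mpr fun c hc => ?_)
      · obtain ⟨c, rfl⟩ := Ideal.Quotient.mk_surjective z
        obtain ⟨k, hk, hck⟩ := H3CAlg.GorMCM.exists_lift hI hxm hreg (a := c) fun i hi => by
          obtain ⟨t, rfl⟩ := Ideal.mem_span_singleton'.1 hi
          rw [← Ideal.Quotient.eq_zero_iff_mem, map_mul]
          refine Submodule.mem_annihilator.mp hz _ (Ideal.mem_span_singleton'.2 ⟨π t, ?_⟩)
          rw [map_mul]
        rw [show Ideal.Quotient.mk (Ideal.span {x}) c = π k from Ideal.Quotient.eq.mpr hck]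
        exact Ideal.mem_map_of_mem π (Submodule.mem_annihilator.mpr hk)
      · refine (Submodule.mem_annihilator_span_singleton _ _).2 ?_
        change π c * π f = 0
        rw [← map_mul, show c * f = 0 from (Submodule.mem_annihilator_span_singleton _ _).1 hc, map_zero]
    let xb := Ideal.Quotient.mk J x
    have hxb : xb ∈ maximalIdeal (A ⧸ J) :=
      (IsLocalRing.map_maximalIdeal_of_surjective _ Ideal.Quotient.mk_surjective).le (Ideal.mem_map_of_mem _ hxm)
    have hregB : IsSMulRegular (A ⧸ J) xb := by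
      rw [isSMulRegular_iff_right_eq_zero_of_smul]
      intro y hy
      obtain ⟨y, rfl⟩ := Ideal.Quotient.mk_surjective y
      rw [smul_eq_mul, ← map_mul, Ideal.Quotient.eq_zero_iff_mem, Submodule.mem_annihilator_span_singleton,
        smul_eq_mul, mul_assoc] at hy
      rw [Ideal.Quotient.eq_zero_iff_mem, Submodule.mem_annihilator_span_singleton, smul_eq_mul]
      exact hreg.right_eq_zero_of_smul hy
    let e : (A ⧸ J) ⧸ Ideal.span {xb} ≃+* (A ⧸ Ideal.span {x}) ⧸ Submodule.annihilator (Ideal.span {π f}) :=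
      ((Ideal.quotEquivOfEq (by rw [Ideal.map_span, Set.image_singleton])).trans
        (DoubleQuot.quotQuotEquivComm J (Ideal.span {x}))).trans (Ideal.quotEquivOfEq hann.symm)
    haveI : IsLocalRing ((A ⧸ J) ⧸ Ideal.span {xb}) := H4Goren.isLocalRing_quotient hxb
    haveI : IsLocalRing ((A ⧸ Ideal.span {x}) ⧸ Submodule.annihilator (Ideal.span {π f})) := e.isLocalRing
    obtain ⟨m, -, hm, -⟩ := H4Goren.depth_eq_ringKrullDim (A ⧸ Ideal.span {x})
    have hmn : m + 1 ≤ n' := by
      have := (ringKrullDim_quotient_succ_le_of_nonZeroDivisor (r := x)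
        (mem_nonZeroDivisors_iff_right.mpr fun y hy => hreg.right_eq_zero_of_smul (by rwa [smul_eq_mul, mul_comm]))).trans hn.le
      rw [hm] at this
      exact_mod_cast this
    haveI := ih m (by omega) hm (π f) hI'
    exact (H4Goren.isGorensteinLocalRing_quotient_iff hxb hregB).2 (H02CA.GorFlat.gor_of_ringEquiv e.symm inferInstance)

/-- If `I = (f) = 0 : J` and `J = 0 : I` in a Gorenstein ring and `S ⧸ I` is Cohen–Macaulay, `S ⧸ J` is Gorenstein. -/
theorem isGorensteinRing_of_linked_principal {S : Type u} [CommRing S] [LocCoh.IsGorensteinRing S] (f₀ : S) (I J : Ideal S)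
    (hIf : I = Ideal.span {f₀}) (hJ : Submodule.annihilator I = J) (hI : Submodule.annihilator J = I)
    [LocCoh.IsCohenMacaulayRing (S ⧸ I)] :
    LocCoh.IsGorensteinRing (S ⧸ J) := by
  haveI := H4Gr.PolyUnmixed.isCohenMacaulayRing_of_isGorensteinRing S
  constructor
  intro q _
  let f := Ideal.Quotient.mk J
  let p := q.comap f
  let A := Localization.AtPrime p
  haveI : LocCoh.IsGorensteinLocalRing A := LocCoh.IsGorensteinRing.isGorensteinLocalRing_localization p
  haveI : LocCoh.IsCohenMacaulayLocalRing A := LocCoh.IsCohenMacaulayRing.isCohenMacaulayLocalRing_localization p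
  let e := H26Grass.quotLocEquiv f Ideal.Quotient.mk_surjective q
  haveI : IsLocalRing (A ⧸ (RingHom.ker f).map (algebraMap S A)) := e.symm.isLocalRing
  have hker : (RingHom.ker f).map (algebraMap S A) = Submodule.annihilator (I.map (algebraMap S A)) :=
    (congrArg (Ideal.map (algebraMap S A)) ((show RingHom.ker f = J from Ideal.mk_ker).trans hJ.symm)).trans
      (map_annihilator A p.primeCompl I)
  suffices h : LocCoh.IsGorensteinLocalRing (A ⧸ (RingHom.ker f).map (algebraMap S A)) from
    H02CA.GorFlat.gor_of_ringEquiv e h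
  by_cases htop : I.map (algebraMap S A) = ⊤
  · have hbot : (RingHom.ker f).map (algebraMap S A) = ⊥ := by
      rw [hker, htop]
      exact (Submodule.eq_bot_iff _).2 fun x hx => by
        simpa using Submodule.mem_annihilator.1 hx 1 Submodule.mem_top
    exact H02CA.GorFlat.gor_of_ringEquiv
      ((RingEquiv.quotientBot A).symm.trans (Ideal.quotEquivOfEq hbot.symm)) inferInstance
  · have hIp : I ≤ p := fun x hx => by
      by_contra hxp
      exact htop (Ideal.eq_top_of_isUnit_mem _ (Ideal.mem_map_of_mem _ hx)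
        (IsLocalization.map_units A (⟨x, hxp⟩ : p.primeCompl)))
    let g := Ideal.Quotient.mk I
    haveI : (p.map g).IsPrime := Ideal.map_isPrime_of_surjective Ideal.Quotient.mk_surjective (by rwa [Ideal.mk_ker])
    have hc : (p.map g).comap g = p := by
      rw [Ideal.comap_map_of_surjective' _ Ideal.Quotient.mk_surjective, Ideal.mk_ker, sup_eq_left.2 hIp]
    haveI : IsLocalization ((p.map g).comap g).primeCompl A :=
      IsLocalization.of_le_of_exists_dvd p.primeCompl _ (fun x hx h => hx (hc ▸ h)) fun x hx =>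
        ⟨x, fun h => hx (by rw [← hc] at h; exact h), dvd_rfl⟩
    obtain ⟨e'⟩ := H02CA.GorFlat.nonempty_equiv_quot g Ideal.Quotient.mk_surjective (p.map g) A
    haveI := LocCoh.IsCohenMacaulayRing.isCohenMacaulayLocalRing_localization (p.map g)
    have hker' : (RingHom.ker g).map (algebraMap S A) = I.map (algebraMap S A) := by
      rw [show RingHom.ker g = I from Ideal.mk_ker]
    haveI : LocCoh.IsCohenMacaulayLocalRing (A ⧸ I.map (algebraMap S A)) :=
      H8Props.CMAt.isCohenMacaulayLocalRing_of_ringEquiv (e'.symm.trans (Ideal.quotEquivOfEq hker'))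
    obtain ⟨Q, hQ, hQp⟩ := Ideal.exists_minimalPrimes_le hIp
    haveI := hQ.1.1
    have hQS : Q ∈ associatedPrimes S S := mem_associatedPrimes_of_annihilator J (by
      rw [hI]
      exact Module.associatedPrimes.minimalPrimes_annihilator_subset_associatedPrimes _ _ (by rwa [Ideal.annihilator_quotient]))
    have hQ0 : Q.height = 0 := Ideal.height_eq_zero_iff.2
      (H1CAlg.hasSk_one_self_iff.1 (H4Gr.PolyUnmixed.hasSk_one_of_cm S) Q hQS)
    have hdisj : Disjoint (p.primeCompl : Set S) (Q : Set S) := Set.disjoint_left.2 fun x hx hxQ => hx (hQp hxQ)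
    haveI := IsLocalization.isPrime_of_isPrime_disjoint p.primeCompl A Q hQ.1.1 hdisj
    have hh : (Q.map (algebraMap S A)).height = Q.height :=
      (IsLocalization.height_under p.primeCompl (Q.map (algebraMap S A))).symm.trans
        (congrArg Ideal.height (IsLocalization.under_map_of_isPrime_disjoint p.primeCompl A hQ.1.1 hdisj))
    have h1 := H05EGA4.height_add_dim_eq_of_isCohenMacaulay A (Q.map (algebraMap S A))
    rw [hh, hQ0, WithBot.coe_zero, zero_add] at h1
    have hdim : ringKrullDim (A ⧸ I.map (algebraMap S A)) = ringKrullDim A :=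
      le_antisymm (ringKrullDim_le_of_surjective _ Ideal.Quotient.mk_surjective)
        (h1 ▸ ringKrullDim_le_of_surjective (Ideal.Quotient.factor (Ideal.map_mono hQ.1.2))
          (Ideal.Quotient.factor_surjective (Ideal.map_mono hQ.1.2)))
    have hspan : I.map (algebraMap S A) = Ideal.span {algebraMap S A f₀} := by
      rw [hIf, Ideal.map_span, Set.image_singleton]
    obtain ⟨n, -, hn, -⟩ := H4Goren.depth_eq_ringKrullDim A
    have hd : LocCoh.depth (A ⧸ I.map (algebraMap S A)) (A ⧸ I.map (algebraMap S A)) = (n : ℕ∞) := by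
      have h := (H8Props.FlatDepth.isCM_iff_dim (A ⧸ I.map (algebraMap S A))).mp ‹_›
      rw [hdim, hn] at h
      exact (WithBot.coe_injective h).symm
    have hMCM : H3CAlg.GorMCM.IsMCMQuot A (I.map (algebraMap S A)) := ⟨htop, n, hn,
      by rw [← H8Props.FlatDepth.depth_eq_of_surjective (R := A) (S := A ⧸ I.map (algebraMap S A))
        (M := A ⧸ I.map (algebraMap S A)) Ideal.Quotient.mk_surjective, hd]⟩
    rw [hspan] at hMCM hker
    haveI : IsLocalRing (A ⧸ Submodule.annihilator (Ideal.span {algebraMap S A f₀})) :=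
      ((Ideal.quotEquivOfEq hker.symm).trans e).symm.isLocalRing
    haveI := gor_quot_ann n hn (algebraMap S A f₀) hMCM
    exact H02CA.GorFlat.gor_of_ringEquiv (Ideal.quotEquivOfEq hker.symm) inferInstance

end Groth.Agent.H4Liaison
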